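import Cfsg.Agent.Lib.MonomialMult.Codes
import Cfsg.Agent.Lib.MonomialMult.U62.Sylow3

/-!
The presentation for the prime 3.
Written by a script.
-/

set_option autoImplicit false
set_option maxRecDepth 100000
set_option maxHeartbeats 0
set_option Elab.async false

namespace Cfsg.Agent.MonomialMult.U62

open Cfsg.Agent.Lib.PcMult

theorem real3 : realT cert3 sylP3 672 orbs3 = true := by decide +kernel

end Cfsg.Agent.MonomialMult.U62
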