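import Cfsg.Agent.Lib.MonomialMult.Codes
import Cfsg.Agent.Lib.MonomialMult.U62.Sylow2

/-!
The tables for the prime 2.
Written by a script.
-/

set_option autoImplicit false
set_option maxRecDepth 100000
set_option maxHeartbeats 0
set_option Elab.async false

namespace Cfsg.Agent.MonomialMult.U62

open Cfsg.Agent.Lib.PcMult

theorem tab2_0 : tab1B cod4 pts 6 (sylW2.getD 0 []) (sylP2.getD 0 id) = true := by decide +kernel

theorem tab2_1 : tab1B cod4 pts 6 (sylW2.getD 1 []) (sylP2.getD 1 id) = true := by decide +kernel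

theorem tab2_2 : tab1B cod4 pts 6 (sylW2.getD 2 []) (sylP2.getD 2 id) = true := by decide +kernel

theorem tab2_3 : tab1B cod4 pts 6 (sylW2.getD 3 []) (sylP2.getD 3 id) = true := by decide +kernel

theorem tab2_4 : tab1B cod4 pts 6 (sylW2.getD 4 []) (sylP2.getD 4 id) = true := by decide +kernel

theorem tab2_5 : tab1B cod4 pts 6 (sylW2.getD 5 []) (sylP2.getD 5 id) = true := by decide +kernel

theorem tab2_6 : tab1B cod4 pts 6 (sylW2.getD 6 []) (sylP2.getD 6 id) = true := by decide +kernel

theorem tab2_7 : tab1B cod4 pts 6 (sylW2.getD 7 []) (sylP2.getD 7 id) = true := by decide +kernel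

theorem tab2_8 : tab1B cod4 pts 6 (sylW2.getD 8 []) (sylP2.getD 8 id) = true := by decide +kernel

theorem tab2_9 : tab1B cod4 pts 6 (sylW2.getD 9 []) (sylP2.getD 9 id) = true := by decide +kernel

theorem tab2_10 : tab1B cod4 pts 6 (sylW2.getD 10 []) (sylP2.getD 10 id) = true := by decide +kernel

theorem tab2_11 : tab1B cod4 pts 6 (sylW2.getD 11 []) (sylP2.getD 11 id) = true := by decide +kernel

theorem tab2_12 : tab1B cod4 pts 6 (sylW2.getD 12 []) (sylP2.getD 12 id) = true := by decide +kernel

theorem tab2_13 : tab1B cod4 pts 6 (sylW2.getD 13 []) (sylP2.getD 13 id) = true := by decide +kernel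

theorem tab2_14 : tab1B cod4 pts 6 (sylW2.getD 14 []) (sylP2.getD 14 id) = true := by decide +kernel

theorem tab2_15 : tab1B cod4 pts 6 (sylW2.getD 15 []) (sylP2.getD 15 id) = true := by decide +kernel

theorem tab2_16 : tab1B cod4 pts 6 (sylW2.getD 16 []) (sylP2.getD 16 id) = true := by decide +kernel

theorem tab2_17 : tab1B cod4 pts 6 (sylW2.getD 17 []) (sylP2.getD 17 id) = true := by decide +kernel

theorem tab2_18 : tab1B cod4 pts 6 (sylW2.getD 18 []) (sylP2.getD 18 id) = true := by decide +kernel

theorem tab2_19 : tab1B cod4 pts 6 (sylW2.getD 19 []) (sylP2.getD 19 id) = true := by decide +kernel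

theorem tab2_20 : tab1B cod4 pts 6 (sylW2.getD 20 []) (sylP2.getD 20 id) = true := by decide +kernel

theorem tab2_21 : tab1B cod4 pts 6 (sylW2.getD 21 []) (sylP2.getD 21 id) = true := by decide +kernel

theorem tab2_22 : tab1B cod4 pts 6 (sylW2.getD 22 []) (sylP2.getD 22 id) = true := by decide +kernel

theorem tab2_23 : tab1B cod4 pts 6 (sylW2.getD 23 []) (sylP2.getD 23 id) = true := by decide +kernel

theorem tab2 : tabB cod4 pts 6 sylW2 sylP2 = true :=
  tab_of_each rfl fun k hk => by
    have hk' : k < 24 := hk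
    interval_cases k
    · exact tab2_0
    · exact tab2_1
    · exact tab2_2
    · exact tab2_3
    · exact tab2_4
    · exact tab2_5
    · exact tab2_6
    · exact tab2_7
    · exact tab2_8
    · exact tab2_9
    · exact tab2_10
    · exact tab2_11
    · exact tab2_12
    · exact tab2_13
    · exact tab2_14
    · exact tab2_15
    · exact tab2_16
    · exact tab2_17
    · exact tab2_18
    · exact tab2_19
    · exact tab2_20
    · exact tab2_21
    · exact tab2_22
    · exact tab2_23

end Cfsg.Agent.MonomialMult.U62
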