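import Cfsg.Agent.Lib.MonomialMult.Codes
import Cfsg.Agent.Lib.MonomialMult.U62.Sylow3

/-!
The tables for the prime 3.
Written by a script.
-/

set_option autoImplicit false
set_option maxRecDepth 100000
set_option maxHeartbeats 0
set_option Elab.async false

namespace Cfsg.Agent.MonomialMult.U62

open Cfsg.Agent.Lib.PcMult

theorem tab3_0 : tab1B cod4 pts 6 (sylW3.getD 0 []) (sylP3.getD 0 id) = true := by decide +kernel

theorem tab3_1 : tab1B cod4 pts 6 (sylW3.getD 1 []) (sylP3.getD 1 id) = true := by decide +kernel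

theorem tab3_2 : tab1B cod4 pts 6 (sylW3.getD 2 []) (sylP3.getD 2 id) = true := by decide +kernel

theorem tab3_3 : tab1B cod4 pts 6 (sylW3.getD 3 []) (sylP3.getD 3 id) = true := by decide +kernel

theorem tab3_4 : tab1B cod4 pts 6 (sylW3.getD 4 []) (sylP3.getD 4 id) = true := by decide +kernel

theorem tab3_5 : tab1B cod4 pts 6 (sylW3.getD 5 []) (sylP3.getD 5 id) = true := by decide +kernel

theorem tab3_6 : tab1B cod4 pts 6 (sylW3.getD 6 []) (sylP3.getD 6 id) = true := by decide +kernel

theorem tab3_7 : tab1B cod4 pts 6 (sylW3.getD 7 []) (sylP3.getD 7 id) = true := by decide +kernel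

theorem tab3_8 : tab1B cod4 pts 6 (sylW3.getD 8 []) (sylP3.getD 8 id) = true := by decide +kernel

theorem tab3_9 : tab1B cod4 pts 6 (sylW3.getD 9 []) (sylP3.getD 9 id) = true := by decide +kernel

theorem tab3_10 : tab1B cod4 pts 6 (sylW3.getD 10 []) (sylP3.getD 10 id) = true := by decide +kernel

theorem tab3 : tabB cod4 pts 6 sylW3 sylP3 = true :=
  tab_of_each rfl fun k hk => by
    have hk' : k < 11 := hk
    interval_cases k
    · exact tab3_0
    · exact tab3_1
    · exact tab3_2
    · exact tab3_3
    · exact tab3_4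
    · exact tab3_5
    · exact tab3_6
    · exact tab3_7
    · exact tab3_8
    · exact tab3_9
    · exact tab3_10

end Cfsg.Agent.MonomialMult.U62
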