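import Cfsg.Agent.Lib.MonomialMult.U62.Points

/-!
The checks of the cover.
-/

set_option autoImplicit false
set_option maxRecDepth 100000
set_option maxHeartbeats 0

namespace Cfsg.Agent.MonomialMult.U62

open Cfsg.Agent.Lib.PcMult

theorem cover_ok : coverB cod4 pts 6 cover = true := by decide +kernel

end Cfsg.Agent.MonomialMult.U62
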