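import Cfsg.Agent.Lib.MonomialMult.U62.Tables

/-!
A lift preserves the labelled graph.
Written by a script.
-/

set_option autoImplicit false
set_option maxRecDepth 100000
set_option maxHeartbeats 0
set_option Elab.async false

namespace Cfsg.Agent.MonomialMult.U62

open Cfsg.Agent.Lib.PcMult

theorem lift0_0 : liftB 2 672 adj cover.w P0 f0 0 112 = true := by decide +kernel

theorem lift0_1 : liftB 2 672 adj cover.w P0 f0 112 112 = true := by decide +kernel

theorem lift0_2 : liftB 2 672 adj cover.w P0 f0 224 112 = true := by decide +kernel

theorem lift0_3 : liftB 2 672 adj cover.w P0 f0 336 112 = true := by decide +kernel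

theorem lift0_4 : liftB 2 672 adj cover.w P0 f0 448 112 = true := by decide +kernel

theorem lift0_5 : liftB 2 672 adj cover.w P0 f0 560 112 = true := by decide +kernel

theorem lift0 : ∀ x < 672, edgeB 2 672 adj cover.w P0 f0 x = true :=
  edges_of_chunks (s := 6) (c := 112) (by norm_num) (by norm_num) fun i hi => by
    interval_cases i
    · exact lift0_0
    · exact lift0_1
    · exact lift0_2
    · exact lift0_3
    · exact lift0_4
    · exact lift0_5

end Cfsg.Agent.MonomialMult.U62
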