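import Cfsg.Agent.Lib.MonomialMult.Assemble
import Cfsg.Agent.Lib.MonomialMult.FieldChange
import Cfsg.Agent.Lib.MonomialMult.U62.Cover
import Cfsg.Agent.Lib.MonomialMult.U62.Lift0
import Cfsg.Agent.Lib.MonomialMult.U62.Lift1
import Cfsg.Agent.Lib.MonomialMult.U62.CLift0
import Cfsg.Agent.Lib.MonomialMult.U62.CLift1
import Cfsg.Agent.Lib.MonomialMult.U62.CLift2
import Cfsg.Agent.Lib.MonomialMult.U62.CLift3
import Cfsg.Agent.Lib.MonomialMult.U62.CheckTab2
import Cfsg.Agent.Lib.MonomialMult.U62.CheckReal2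
import Cfsg.Agent.Lib.MonomialMult.U62.CheckCert2
import Cfsg.Agent.Lib.MonomialMult.U62.CheckTab3
import Cfsg.Agent.Lib.MonomialMult.U62.CheckReal3
import Cfsg.Agent.Lib.MonomialMult.U62.CheckCert3

/-!
The multiplier of the projective special unitary group of dimension six over the field with four elements.
-/

set_option autoImplicit false
set_option maxRecDepth 100000

namespace Cfsg.Agent.MonomialMult.U62

open Cfsg.Agent.Lib.PcMult Cfsg.Agent.Classical.Unitary
open Cfsg.Agent.InvChar.Coset (FF)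

universe u

theorem card_psu : Nat.card (Cfsg.PSU 6 FF 2) = 9196830720 := by
  have h := natCard_PSU_mul (n := 6) (q := 2) (F := FF) InvChar.Coset.FF.card (by norm_num)
  rw [natCard_GU InvChar.Coset.FF.card, show Nat.gcd 6 (2 + 1) = 3 from rfl] at h
  simp [Finset.prod_range_succ, Nat.even_iff] at h
  omega

theorem not_exceptional : ¬ ((6 : ℕ) = 3 ∧ (2 : ℕ) = 2) := by omega

theorem par_lt : cover.par 0 < pts.m := by decide +kernel

theorem no_eight {Γ : Type} [Group Γ] [Finite Γ] {σ : Γ →* Cfsg.PSU 6 FF 2} (hσ : Cfsg.IsStemExtension σ) :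
    ¬ 2 ^ 3 ∣ Nat.card σ.ker := by
  haveI := Fact.mk Nat.prime_two
  refine sylow_bound good (by norm_num) not_exceptional cover_ok par_lt tab2 real2 (m' := 8) (d := 2) (p := 2) (k := 3)
    (by norm_num) (by norm_num) Nat.prime_two (fun K _ hK τ => ⟨_, octOps_valid hK τ⟩) check2 ?_ rfl rfl ?_ hσ
  · rw [card_psu, show (9196830720 : ℕ) = 2 ^ 15 * 280665 by norm_num]
    exact factorization_split Nat.prime_two (by norm_num)
  · decide

theorem no_nine {Γ : Type} [Group Γ] [Finite Γ] {σ : Γ →* Cfsg.PSU 6 FF 2}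
    (hσ : Cfsg.IsStemExtension σ) : ¬ 3 ^ 2 ∣ Nat.card σ.ker := by
  haveI := Fact.mk Nat.prime_three
  refine sylow_bound good (by norm_num) not_exceptional cover_ok par_lt tab3 real3 (m' := 9) (d := 3) (p := 3) (k := 2)
    (by norm_num) (by norm_num) Nat.prime_three (fun K _ hK τ => ⟨_, vecOps_valid hK τ⟩) check3 ?_ rfl rfl ?_ hσ
  · rw [card_psu, show (9196830720 : ℕ) = 3 ^ 6 * 12615680 by norm_num]
    exact factorization_split Nat.prime_three (by norm_num)
  · decide

theorem card_ker_le {Γ : Type} [Group Γ] [Finite Γ] (σ : Γ →* Cfsg.PSU 6 FF 2)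
    (hσ : Cfsg.IsStemExtension σ) : Nat.card σ.ker ≤ 12 := by
  refine Nat.le_of_dvd (by norm_num) (dvd_of_primes Nat.card_pos.ne' (by norm_num) fun p hp => ?_)
  by_cases h2 : p = 2
  · subst h2
    rw [show (12 : ℕ) = 2 ^ 2 * 3 by norm_num, factorization_split Nat.prime_two (by norm_num)]
    exact no_eight hσ
  by_cases h3 : p = 3
  · subst h3
    rw [show (12 : ℕ) = 3 ^ 1 * 4 by norm_num, factorization_split Nat.prime_three (by norm_num)]
    exact no_nine hσ
  have hnd : ¬ p ∣ 12 := fun hd => by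
    have : p ≤ 12 := Nat.le_of_dvd (by norm_num) hd
    interval_cases p <;> revert hp hd h2 h3 <;> norm_num
  rw [Nat.factorization_eq_zero_of_not_dvd hnd, Nat.zero_add, pow_one]
  refine not_dvd_of_sq hp (fun hd => ?_) hσ
  rw [card_psu, show (9196830720 : ℕ) = 2 ^ 15 * (3 ^ 6 * 385) by norm_num] at hd
  have c2 : Nat.Coprime (p ^ 2) (2 ^ 15) := ((Nat.coprime_primes hp Nat.prime_two).2 h2).pow _ _
  have c3 : Nat.Coprime (p ^ 2) (3 ^ 6) := ((Nat.coprime_primes hp Nat.prime_three).2 h3).pow _ _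
  have h385 : p ^ 2 ∣ 385 := c3.dvd_of_dvd_mul_left (c2.dvd_of_dvd_mul_left hd)
  have : p < 20 := by nlinarith [Nat.le_of_dvd (by norm_num : 0 < 385) h385]
  interval_cases p <;> revert hp h385 h2 h3 <;> norm_num

theorem exists_cover12 : ∃ (E : Type) (_ : Group E) (_ : Finite E) (θ : E →* Cfsg.PSU 6 FF 2),
    Cfsg.IsStemExtension θ ∧ Nonempty (θ.ker ≃* Multiplicative (ZMod 3 × ZMod 2 × ZMod 2)) := by
  obtain ⟨X, _, _, σ, hσ, ⟨eX⟩⟩ := exists_center_cover (D := pts) good (by norm_num) not_exceptional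
  haveI : NeZero cover.p := ⟨by decide⟩
  obtain ⟨Y, _, _, τ, hτ, ⟨eY⟩⟩ := exists_pair_cover good (by norm_num) not_exceptional cover_ok
    (fun k hk => by
      have hk' : k < 2 := hk
      interval_cases k
      · exact lift0
      · exact lift1)
    (fun k hk => by
      interval_cases k
      · exact clift0
      · exact clift1
      · exact clift2
      · exact clift3) par_lt
  obtain ⟨E, i1, i2, θ, hθ, ⟨e⟩⟩ := exists_prod (perfect good (by norm_num) not_exceptional)
    (A := Multiplicative (ZMod 3)) (B := Multiplicative (ZMod 2 × ZMod 2))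
    (by simp [Nat.card_prod]; decide) hσ eX hτ eY
  exact ⟨E, i1, i2, θ, hθ, ⟨e.trans (MulEquiv.prodMultiplicative (ZMod 3) (ZMod 2 × ZMod 2)).symm⟩⟩

theorem main {F : Type u} [Field F] [Fintype F] (hF : Fintype.card F = 4) :
    Cfsg.HasSchurMultiplier (Cfsg.PSU 6 F 2) (Multiplicative (ZMod 3 × ZMod 2 × ZMod 2)) := by
  obtain ⟨e⟩ := psu_field_equiv (n := 6) (q := 2)
    (FiniteField.ringEquivOfCardEq (by rw [hF, InvChar.Coset.FF.card]) : F ≃+* FF)
  refine hasSchur_of_model e (perfect good (by norm_num) not_exceptional) exists_cover12 fun Δ _ _ τ hτ => ?_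
  refine (card_ker_le τ hτ).trans (le_of_eq ?_)
  simp [Nat.card_prod]

end Cfsg.Agent.MonomialMult.U62
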