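import Cfsg.Agent.Lib.MonomialMult.Codes
import Cfsg.Agent.Lib.MonomialMult.U62.Sylow2

/-!
The presentation for the prime 2.
Written by a script.
-/

set_option autoImplicit false
set_option maxRecDepth 100000
set_option maxHeartbeats 0
set_option Elab.async false

namespace Cfsg.Agent.MonomialMult.U62

open Cfsg.Agent.Lib.PcMult

theorem rules2_0 : rulesB cert2 sylP2 672 0 = true := by decide +kernel

theorem rules2_1 : rulesB cert2 sylP2 672 1 = true := by decide +kernel

theorem rules2_2 : rulesB cert2 sylP2 672 2 = true := by decide +kernel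

theorem rules2_3 : rulesB cert2 sylP2 672 3 = true := by decide +kernel

theorem rules2_4 : rulesB cert2 sylP2 672 4 = true := by decide +kernel

theorem rules2_5 : rulesB cert2 sylP2 672 5 = true := by decide +kernel

theorem rules2_6 : rulesB cert2 sylP2 672 6 = true := by decide +kernel

theorem rules2_7 : rulesB cert2 sylP2 672 7 = true := by decide +kernel

theorem rules2_8 : rulesB cert2 sylP2 672 8 = true := by decide +kernel

theorem rules2_9 : rulesB cert2 sylP2 672 9 = true := by decide +kernel

theorem rules2_10 : rulesB cert2 sylP2 672 10 = true := by decide +kernel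

theorem rules2_11 : rulesB cert2 sylP2 672 11 = true := by decide +kernel

theorem rules2_12 : rulesB cert2 sylP2 672 12 = true := by decide +kernel

theorem rules2_13 : rulesB cert2 sylP2 672 13 = true := by decide +kernel

theorem rules2_14 : rulesB cert2 sylP2 672 14 = true := by decide +kernel

theorem fus2_0 : fusB cert2 sylP2 672 (cert2.fus.getD 0 ([], []), 0) = true := by decide +kernel

theorem fus2_1 : fusB cert2 sylP2 672 (cert2.fus.getD 1 ([], []), 1) = true := by decide +kernel

theorem fus2_2 : fusB cert2 sylP2 672 (cert2.fus.getD 2 ([], []), 2) = true := by decide +kernel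

theorem fus2_3 : fusB cert2 sylP2 672 (cert2.fus.getD 3 ([], []), 3) = true := by decide +kernel

theorem fus2_4 : fusB cert2 sylP2 672 (cert2.fus.getD 4 ([], []), 4) = true := by decide +kernel

theorem fus2_5 : fusB cert2 sylP2 672 (cert2.fus.getD 5 ([], []), 5) = true := by decide +kernel

theorem fus2_6 : fusB cert2 sylP2 672 (cert2.fus.getD 6 ([], []), 6) = true := by decide +kernel

theorem fus2_7 : fusB cert2 sylP2 672 (cert2.fus.getD 7 ([], []), 7) = true := by decide +kernel

theorem fus2_8 : fusB cert2 sylP2 672 (cert2.fus.getD 8 ([], []), 8) = true := by decide +kernel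

theorem orb2_0 : orbB cert2 sylP2 672 orbs2 0 = true := by decide +kernel

theorem orbhd2_1 : orbHd sylP2 672 orbs2 1 = true := by decide +kernel

theorem orbj2_1_2 : orbJ sylP2 orbs2 1 2 = true := by decide +kernel

theorem orbj2_1_3 : orbJ sylP2 orbs2 1 3 = true := by decide +kernel

theorem orbj2_1_4 : orbJ sylP2 orbs2 1 4 = true := by decide +kernel

theorem orbj2_1_5 : orbJ sylP2 orbs2 1 5 = true := by decide +kernel

theorem orbj2_1_6 : orbJ sylP2 orbs2 1 6 = true := by decide +kernel

theorem orbj2_1_7 : orbJ sylP2 orbs2 1 7 = true := by decide +kernel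

theorem orbj2_1_8 : orbJ sylP2 orbs2 1 8 = true := by decide +kernel

theorem orbj2_1_9 : orbJ sylP2 orbs2 1 9 = true := by decide +kernel

theorem orbj2_1_10 : orbJ sylP2 orbs2 1 10 = true := by decide +kernel

theorem orbj2_1_11 : orbJ sylP2 orbs2 1 11 = true := by decide +kernel

theorem orbj2_1_12 : orbJ sylP2 orbs2 1 12 = true := by decide +kernel

theorem orbj2_1_13 : orbJ sylP2 orbs2 1 13 = true := by decide +kernel

theorem orbj2_1_14 : orbJ sylP2 orbs2 1 14 = true := by decide +kernel

theorem orb2_1 : orbB cert2 sylP2 672 orbs2 1 = true :=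
  orb_of_parts orbhd2_1 fun j hj hj' => by
    have hj'' : j < 15 := hj'
    interval_cases j
    · exact orbj2_1_2
    · exact orbj2_1_3
    · exact orbj2_1_4
    · exact orbj2_1_5
    · exact orbj2_1_6
    · exact orbj2_1_7
    · exact orbj2_1_8
    · exact orbj2_1_9
    · exact orbj2_1_10
    · exact orbj2_1_11
    · exact orbj2_1_12
    · exact orbj2_1_13
    · exact orbj2_1_14

theorem orb2_2 : orbB cert2 sylP2 672 orbs2 2 = true := by decide +kernel

theorem orbhd2_3 : orbHd sylP2 672 orbs2 3 = true := by decide +kernel

theorem orbj2_3_4 : orbJ sylP2 orbs2 3 4 = true := by decide +kernel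

theorem orbj2_3_5 : orbJ sylP2 orbs2 3 5 = true := by decide +kernel

theorem orbj2_3_6 : orbJ sylP2 orbs2 3 6 = true := by decide +kernel

theorem orbj2_3_7 : orbJ sylP2 orbs2 3 7 = true := by decide +kernel

theorem orbj2_3_8 : orbJ sylP2 orbs2 3 8 = true := by decide +kernel

theorem orbj2_3_9 : orbJ sylP2 orbs2 3 9 = true := by decide +kernel

theorem orbj2_3_10 : orbJ sylP2 orbs2 3 10 = true := by decide +kernel

theorem orbj2_3_11 : orbJ sylP2 orbs2 3 11 = true := by decide +kernel

theorem orbj2_3_12 : orbJ sylP2 orbs2 3 12 = true := by decide +kernel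

theorem orbj2_3_13 : orbJ sylP2 orbs2 3 13 = true := by decide +kernel

theorem orbj2_3_14 : orbJ sylP2 orbs2 3 14 = true := by decide +kernel

theorem orb2_3 : orbB cert2 sylP2 672 orbs2 3 = true :=
  orb_of_parts orbhd2_3 fun j hj hj' => by
    have hj'' : j < 15 := hj'
    interval_cases j
    · exact orbj2_3_4
    · exact orbj2_3_5
    · exact orbj2_3_6
    · exact orbj2_3_7
    · exact orbj2_3_8
    · exact orbj2_3_9
    · exact orbj2_3_10
    · exact orbj2_3_11
    · exact orbj2_3_12
    · exact orbj2_3_13
    · exact orbj2_3_14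

theorem orb2_4 : orbB cert2 sylP2 672 orbs2 4 = true := by decide +kernel

theorem orb2_5 : orbB cert2 sylP2 672 orbs2 5 = true := by decide +kernel

theorem orb2_6 : orbB cert2 sylP2 672 orbs2 6 = true := by decide +kernel

theorem orb2_7 : orbB cert2 sylP2 672 orbs2 7 = true := by decide +kernel

theorem orb2_8 : orbB cert2 sylP2 672 orbs2 8 = true := by decide +kernel

theorem orb2_9 : orbB cert2 sylP2 672 orbs2 9 = true := by decide +kernel

theorem orb2_10 : orbB cert2 sylP2 672 orbs2 10 = true := by decide +kernel

theorem orb2_11 : orbB cert2 sylP2 672 orbs2 11 = true := by decide +kernel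

theorem orb2_12 : orbB cert2 sylP2 672 orbs2 12 = true := by decide +kernel

theorem orb2_13 : orbB cert2 sylP2 672 orbs2 13 = true := by decide +kernel

theorem orb2_14 : orbB cert2 sylP2 672 orbs2 14 = true := by decide +kernel

theorem real2 : realT cert2 sylP2 672 orbs2 = true :=
  real_of_parts (by decide) (fun i hi => by
    have hi' : i < 15 := hi
    interval_cases i
    · exact rules2_0
    · exact rules2_1
    · exact rules2_2
    · exact rules2_3
    · exact rules2_4
    · exact rules2_5
    · exact rules2_6
    · exact rules2_7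
    · exact rules2_8
    · exact rules2_9
    · exact rules2_10
    · exact rules2_11
    · exact rules2_12
    · exact rules2_13
    · exact rules2_14
  ) (fun q hq => by
    have hq' : q < 9 := hq
    interval_cases q
    · exact fus2_0
    · exact fus2_1
    · exact fus2_2
    · exact fus2_3
    · exact fus2_4
    · exact fus2_5
    · exact fus2_6
    · exact fus2_7
    · exact fus2_8
  ) (fun i hi => by
    have hi' : i < 15 := hi
    interval_cases i
    · exact orb2_0
    · exact orb2_1
    · exact orb2_2
    · exact orb2_3
    · exact orb2_4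
    · exact orb2_5
    · exact orb2_6
    · exact orb2_7
    · exact orb2_8
    · exact orb2_9
    · exact orb2_10
    · exact orb2_11
    · exact orb2_12
    · exact orb2_13
    · exact orb2_14
  )

end Cfsg.Agent.MonomialMult.U62
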