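import Cfsg.Agent.Lib.MonomialMult.Codes
import Cfsg.Agent.Lib.MonomialMult.U62.Tables

/-!
The point tables are right.
-/

set_option autoImplicit false
set_option maxRecDepth 100000
set_option maxHeartbeats 0
set_option Elab.async false

namespace Cfsg.Agent.MonomialMult.U62

/-- The decomposition of a code is right. -/
def vecB (v : ℕ) : Bool :=
    if cod4.hN 6 v v == 0 then v == 0 || (decide (pts.iidx v < pts.m') && multB cod4 6 v (pts.iso (pts.iidx v)))
    else decide (pts.idx v < pts.m) && multB cod4 6 v (pts.pt (pts.idx v))

theorem points_a0 : below (fun d => vecB (0 * 2048 + d)) 2048 = true := by decide +kernel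

theorem points_a1 : below (fun d => vecB (1 * 2048 + d)) 2048 = true := by decide +kernel

theorem points_a : below vecB (cod4.N ^ 6) = true :=
  below_of_chunks 2048 2 rfl fun i hi => by
    interval_cases i
    · exact points_a0
    · exact points_a1

theorem points_b : below (fun y => decide (pts.pt y < cod4.N ^ 6) && cod4.hN 6 (pts.pt y) (pts.pt y) == 1 &&
    below (fun s => s == 0 || pts.idx (cod4.scaleN 6 s (pts.pt y)) == y) cod4.N) pts.m = true := by
  decide +kernel

theorem points_c : below (fun z => decide (pts.iso z < cod4.N ^ 6) && !(pts.iso z == 0) &&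
    cod4.hN 6 (pts.iso z) (pts.iso z) == 0) pts.m' = true := by
  decide +kernel

theorem points_ok : ptsB cod4 pts 6 = true := by
  show (below vecB (cod4.N ^ 6) && _ && _) = true
  rw [points_a, points_b, points_c]
  rfl

theorem good : Good cod4 pts 6 := ⟨InvChar.Coset.FF.card, four_spec.2.2.2.1, points_ok⟩

end Cfsg.Agent.MonomialMult.U62
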